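import Cfsg.Agent.H11.ThreeOrders.Count
import Cfsg.Agent.H65.Dihedral
import Cfsg.Agent.H65.BaerSuzuki

/-!
A CIT group with 2-exponent four has no socle `A₆` of index two.
-/

set_option autoImplicit false
set_option linter.unusedSectionVars false
set_option linter.style.haveILetI false

namespace H11.ThreeOrders

open Subgroup

universe u

abbrev A6 : Type := alternatingGroup (Fin 6)

theorem a6_inverted : ∀ w : A6, (w ^ 3 = 1 ∨ w ^ 5 = 1) → ∃ t : A6, t * t = 1 ∧ t * w * t = w⁻¹ := by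
  decide +kernel

def a6s : A6 := ⟨Equiv.swap 1 3 * Equiv.swap 4 5, by rw [Equiv.Perm.mem_alternatingGroup]; decide +kernel⟩

def a6t : A6 := ⟨Equiv.swap 1 3 * Equiv.swap 4 5 *
  (Equiv.swap 0 1 * Equiv.swap 1 2 * Equiv.swap 2 3 * Equiv.swap 4 5),
  by rw [Equiv.Perm.mem_alternatingGroup]; decide +kernel⟩

theorem a6_dihedral : a6s * a6s = 1 ∧ a6t * a6t = 1 ∧ a6s ≠ 1 ∧ a6t ≠ 1 ∧
    (a6s * a6t) ^ 4 = 1 ∧ (a6s * a6t) ^ 2 ≠ 1 := by
  decide +kernel

theorem card_a6 : Nat.card A6 = 360 := by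
  rw [Nat.card_eq_fintype_card]; decide +kernel

variable {X : Type u} [Group X] [Finite X]

/-- An involution outside. -/
theorem exists_outer_invol (hexp : ∀ (x : X) (k : ℕ), orderOf x = 2 ^ k → k ≤ 2) (N : Subgroup X) [N.Normal]
    (e : N ≃* A6) (hi : N.index = 2) : ∃ y : X, y ∉ N ∧ orderOf y = 2 := by
  classical
  haveI : Fact (Nat.Prime 2) := ⟨Nat.prime_two⟩
  obtain ⟨h1, h2, h3, h4, h5, h6⟩ := a6_dihedral
  set s : X := ((e.symm a6s : N) : X)
  set t : X := ((e.symm a6t : N) : X)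
  have hso : orderOf s = 2 := by
    rw [orderOf_coe, MulEquiv.orderOf_eq]; exact H65.two_iff.2 ⟨h1, h3⟩
  have hto : orderOf t = 2 := by
    rw [orderOf_coe, MulEquiv.orderOf_eq]; exact H65.two_iff.2 ⟨h2, h4⟩
  have hr : orderOf (s * t) = 4 := by
    rw [← Subgroup.coe_mul, ← map_mul, orderOf_coe, MulEquiv.orderOf_eq]
    exact orderOf_eq_prime_pow (p := 2) (n := 1) (by simpa using h6) (by simpa using h5)
  have hst : s ≠ t := fun h => by
    rw [← h, H65.mul_self_of_two hso, orderOf_one] at hr; norm_num at hr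
  set D := closure ({s, t} : Set X) with hD
  have hDc : Nat.card D = 8 := by rw [hD, H65.card_closure_pair hso hto hst, hr]
  have hDN : D ≤ N := by
    rw [hD, closure_le]
    rintro z (rfl | rfl)
    exacts [(e.symm a6s).2, (e.symm a6t).2]
  obtain ⟨S, hS⟩ := IsPGroup.exists_le_sylow (p := 2) (P := D) (IsPGroup.of_card (n := 3) (by rw [hDc]; norm_num))
  have hN : Nat.card N = 360 := by rw [Nat.card_congr e.toEquiv, card_a6]
  have hSN : (S : Subgroup X) ⊓ N = D := by
    refine (eq_of_le_of_card_ge (le_inf hS hDN) ?_).symm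
    obtain ⟨k, hk⟩ := IsPGroup.iff_card.1 (S.isPGroup'.to_le (inf_le_left : (S : Subgroup X) ⊓ N ≤ _))
    have hd : 2 ^ k ∣ 360 := hk ▸ hN ▸ card_dvd_of_le inf_le_right
    have hk3 : k ≤ 3 := by
      by_contra h
      exact absurd ((pow_dvd_pow 2 (by omega : 4 ≤ k)).trans hd) (by norm_num)
    rw [hk, hDc, show 8 = 2 ^ 3 by norm_num]
    exact Nat.pow_le_pow_right two_pos hk3
  have hS16 : Nat.card S = 16 := by
    rw [S.card_eq_multiplicity, ← N.card_mul_index, hN, hi]
    have h : (720 : ℕ).factorization 2 = 4 := by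
      rw [show (720 : ℕ) = 2 ^ 4 * 45 by norm_num, Nat.factorization_mul (by norm_num) (by norm_num),
        Finsupp.add_apply, Nat.Prime.factorization_pow Nat.prime_two, Finsupp.single_eq_same,
        Nat.factorization_eq_zero_of_not_dvd (by norm_num), add_zero]
    norm_num [h]
  obtain ⟨x, hxS, hxN⟩ : ∃ x ∈ (S : Subgroup X), x ∉ N := by
    by_contra hc
    push Not at hc
    have h : (S : Subgroup X) ⊓ N = (S : Subgroup X) := inf_eq_left.2 hc
    rw [hSN] at h
    rw [← h, hDc] at hS16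
    norm_num at hS16
  set r := s * t with hrd
  have hrD : r ∈ D := mul_mem (subset_closure (by simp)) (subset_closure (by simp))
  have hsD : s ∈ D := subset_closure (by simp)
  have helts : ∀ z ∈ D, (∃ k : ℤ, z = r ^ k) ∨ (∃ k : ℤ, z = s * r ^ k) := fun z hz => by
    obtain ⟨k, hk | hk⟩ := (H65.mem_closure_pair_iff hso hto).1 hz
    exacts [Or.inl ⟨k, hk⟩, Or.inr ⟨k, hk⟩]
  have hsr : s * r * s⁻¹ = r⁻¹ := by
    rw [hrd, inv_eq_of_mul_eq_one_right (H65.mul_self_of_two hso), mul_inv_rev,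
      inv_eq_of_mul_eq_one_right (H65.mul_self_of_two hso),
      inv_eq_of_mul_eq_one_right (H65.mul_self_of_two hto), ← mul_assoc, H65.mul_self_of_two hso, one_mul]
  have hinv : ∀ k : ℤ, s * r ^ k * (s * r ^ k) = 1 := fun k => by
    have : s * r ^ k * s⁻¹ = (r ^ k)⁻¹ := by rw [← conj_zpow, hsr, inv_zpow]
    calc s * r ^ k * (s * r ^ k) = (s * r ^ k * s⁻¹) * (s * s) * r ^ k := by group
      _ = 1 := by rw [H65.mul_self_of_two hso, mul_one, this, inv_mul_cancel]
  have hr4 : ∀ z ∈ D, orderOf z = 4 → z = r ∨ z = r⁻¹ := by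
    intro z hz hzo
    rcases helts z hz with ⟨k, rfl⟩ | ⟨k, rfl⟩
    · have hk : k % 4 = 0 ∨ k % 4 = 1 ∨ k % 4 = 2 ∨ k % 4 = 3 := by omega
      rw [← zpow_mod_orderOf, hr] at hzo ⊢
      rcases hk with h | h | h | h <;> rw [Nat.cast_ofNat, h] at hzo ⊢
      · simp at hzo
      · left; exact zpow_one r
      · exfalso
        rw [show (r : X) ^ (2 : ℤ) = r ^ 2 from zpow_natCast r 2, orderOf_pow, hr] at hzo
        norm_num at hzo
      · right
        rw [eq_inv_iff_mul_eq_one, ← zpow_add_one]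
        rw [show ((3 : ℤ) + 1) = ((4 : ℕ) : ℤ) by norm_num, zpow_natCast, ← hr, pow_orderOf_eq_one]
    · have := orderOf_dvd_of_pow_eq_one (x := s * r ^ k) (n := 2) (by rw [pow_two]; exact hinv k)
      rw [hzo] at this
      norm_num at this
  obtain ⟨x, hxS, hxN, hxr⟩ : ∃ x ∈ (S : Subgroup X), x ∉ N ∧ x * r * x⁻¹ = r := by
    have h : x * r * x⁻¹ ∈ D := by
      rw [← hSN]
      exact ⟨(S : Subgroup X).mul_mem ((S : Subgroup X).mul_mem hxS (hS hrD)) ((S : Subgroup X).inv_mem hxS),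
        (inferInstance : N.Normal).conj_mem _ (hDN hrD) x⟩
    rcases hr4 _ h (by rw [show x * r * x⁻¹ = MulAut.conj x r from rfl, MulEquiv.orderOf_eq, hr]) with h | h
    · exact ⟨x, hxS, hxN, h⟩
    · refine ⟨x * s, mul_mem hxS (hS hsD), fun h' => hxN ((mul_mem_cancel_right (hDN hsD)).1 h'), ?_⟩
      rw [show x * s * r * (x * s)⁻¹ = x * (s * r * s⁻¹) * x⁻¹ by group, hsr,
        show x * r⁻¹ * x⁻¹ = (x * r * x⁻¹)⁻¹ by group, h, inv_inv]
  obtain ⟨k, hk⟩ := H11.CIT.orderOf_eq_two_pow S.isPGroup' hxS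
  have hk2 := hexp x k hk
  have hx1 : x ≠ 1 := fun h => hxN (h ▸ one_mem _)
  interval_cases k
  · exact absurd (orderOf_eq_one_iff.1 (by simpa using hk)) hx1
  · exact ⟨x, hxN, by simpa using hk⟩
  norm_num at hk
  have hcr : Commute x r := mul_inv_eq_iff_eq_mul.1 hxr
  have hx2 : x * x ∈ D := hSN ▸ ⟨mul_mem hxS hxS, by
    simpa [pow_two] using Subgroup.sq_mem_of_index_two hi x⟩
  have hx22 : orderOf (x * x) = 2 := by rw [← pow_two, orderOf_pow, hk]; norm_num
  rcases helts _ hx2 with ⟨j, hj⟩ | ⟨j, hj⟩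
  · have hr2 : x * x = r ^ (2 : ℤ) := by
      have hj4 : j % 4 = 0 ∨ j % 4 = 1 ∨ j % 4 = 2 ∨ j % 4 = 3 := by omega
      rw [← zpow_mod_orderOf, hr] at hj
      rcases hj4 with h | h | h | h <;> rw [Nat.cast_ofNat, h] at hj
      · rw [hj, zpow_zero, orderOf_one] at hx22; norm_num at hx22
      · rw [hj, zpow_one, hr] at hx22; norm_num at hx22
      · exact hj
      · rw [hj, show (r : X) ^ (3 : ℤ) = r ^ 3 from zpow_natCast r 3, orderOf_pow, hr] at hx22
        norm_num at hx22
    refine ⟨x * r, fun h' => hxN ((mul_mem_cancel_right (hDN hrD)).1 h'), H65.two_iff.2 ⟨?_, fun h' => hxN ?_⟩⟩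
    · calc x * r * (x * r) = (x * x) * (r * r) := hcr.symm.mul_mul_mul_comm x r
        _ = r ^ (4 : ℤ) := by rw [hr2, ← zpow_two, ← zpow_add]; norm_num
        _ = 1 := by rw [show (4 : ℤ) = ((4 : ℕ) : ℤ) by norm_num, zpow_natCast, ← hr, pow_orderOf_eq_one]
    · rw [eq_inv_of_mul_eq_one_left h']; exact inv_mem (hDN hrD)
  · exfalso
    have hc : Commute (x * x) r := hcr.mul_left hcr
    rw [hj] at hc
    have h1 : r * r = 1 := by
      have hc' : s * r ^ j * r * (s * r ^ j)⁻¹ = r := mul_inv_eq_iff_eq_mul.2 hc.eq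
      rw [show s * r ^ j * r * (s * r ^ j)⁻¹ = s * r * s⁻¹ by group, hsr] at hc'
      nth_rewrite 1 [← hc']
      exact inv_mul_cancel r
    have := orderOf_dvd_of_pow_eq_one (x := r) (n := 2) (by rw [pow_two]; exact h1)
    rw [hr] at this
    norm_num at this

/-- No CIT group with 2-exponent four has a self-centralising normal `A₆` of index two. -/
theorem no_a6_two (hG : H11.CIT.IsCIT X) (hexp : ∀ (x : X) (k : ℕ), orderOf x = 2 ^ k → k ≤ 2)
    (N : Subgroup X) [N.Normal] (hC : Subgroup.centralizer (N : Set X) = ⊥)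
    (e : N ≃* A6) (hi : N.index = 2) : False := by
  classical
  haveI : Fact (Nat.Prime 2) := ⟨Nat.prime_two⟩
  obtain ⟨y, hyN, hy⟩ := exists_outer_invol hexp N e hi
  have hy1 : y ≠ 1 := fun h => hyN (h ▸ one_mem _)
  obtain ⟨h1, -, h3, -⟩ := a6_dihedral
  have hcore : y ∉ Cfsg.pCore 2 X := by
    intro h
    have hc : ∀ n ∈ N, n * y = y * n := by
      intro n hn
      have hint : Cfsg.pCore 2 X ⊓ N = ⊥ := by
        by_contra hne
        haveI hs : IsSimpleGroup N := by
          haveI : IsSimpleGroup A6 := alternatingGroup.isSimpleGroup (by norm_num)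
          haveI : Nontrivial N := e.toEquiv.nontrivial
          exact IsSimpleGroup.isSimpleGroup_of_surjective (f := e.symm.toMonoidHom) e.symm.surjective
        haveI := H1.pCore_characteristic 2 X
        rcases (inferInstance : ((Cfsg.pCore 2 X).subgroupOf N).Normal).eq_bot_or_eq_top with h' | h'
        · rw [subgroupOf_eq_bot, disjoint_iff] at h'
          exact hne h'
        · have h360 := Nat.card_congr e.toEquiv
          obtain ⟨k, hk⟩ := IsPGroup.iff_card.1 ((H1.isPGroup_pCore 2 X).to_le (subgroupOf_eq_top.1 h'))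
          rw [hk, card_a6] at h360
          have h9 : (3 : ℕ) ∣ 2 ^ k := h360 ▸ by norm_num
          have := Nat.Prime.dvd_of_dvd_pow Nat.prime_three h9
          norm_num at this
      haveI := H1.pCore_characteristic 2 X
      exact (Subgroup.commute_of_normal_of_disjoint (Cfsg.pCore 2 X) N inferInstance inferInstance
        (disjoint_iff.2 hint) y n h hn).eq.symm
    have : y ∈ centralizer (N : Set X) := mem_centralizer_iff.2 hc
    rw [hC, mem_bot] at this
    exact hy1 this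
  obtain ⟨w, hw1, hwo, hw⟩ := H65.exists_odd_inverted hy hcore
  -- reduce to an inverted element of prime order
  obtain ⟨p, hp, hpd⟩ := Nat.exists_prime_and_dvd (fun h => hw1 (orderOf_eq_one_iff.1 h))
  set v := w ^ (orderOf w / p) with hvd
  have hvo : orderOf v = p := orderOf_div w hpd
  have hv : y * v * y⁻¹ = v⁻¹ := by rw [hvd, ← conj_pow, hw, inv_pow]
  have hpodd : Odd p := hwo.of_dvd_nat hpd
  have hmem : ∀ z : X, Odd (orderOf z) → z ∈ N := by
    intro z hz
    obtain ⟨j, hj⟩ := hz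
    have h2 : (z * z) ^ (j + 1) ∈ N := pow_mem (by simpa [pow_two] using Subgroup.sq_mem_of_index_two hi z) _
    rwa [← pow_two, ← pow_mul, show 2 * (j + 1) = orderOf z + 1 by omega, pow_succ, pow_orderOf_eq_one,
      one_mul] at h2
  have hvN : v ∈ N := hmem v (hvo ▸ hpodd)
  set v₀ : A6 := e ⟨v, hvN⟩
  have hv₀o : orderOf v₀ = p := by rw [MulEquiv.orderOf_eq, orderOf_mk, hvo]
  have hp35 : p = 3 ∨ p = 5 := by
    have hd : p ∣ 360 := card_a6 ▸ hv₀o ▸ orderOf_dvd_natCard v₀
    have hmem : p ∈ Nat.primeFactors 360 := Nat.mem_primeFactors.2 ⟨hp, hd, by norm_num⟩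
    rw [show Nat.primeFactors 360 = {2, 3, 5} by simp +decide [Nat.primeFactors]] at hmem
    simp only [Finset.mem_insert, Finset.mem_singleton] at hmem
    rcases hmem with rfl | h | h
    · exact absurd hpodd (by decide)
    · exact Or.inl h
    · exact Or.inr h
  obtain ⟨t₀, ht2, htv⟩ := a6_inverted v₀ (hp35.imp (fun h => by rw [← h, ← hv₀o]; exact pow_orderOf_eq_one _)
    (fun h => by rw [← h, ← hv₀o]; exact pow_orderOf_eq_one _))
  set t : X := ((e.symm t₀ : N) : X) with htd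
  have htN : t ∈ N := (e.symm t₀).2
  have htv' : t * v * t = v⁻¹ := by
    have h := congrArg (fun z : A6 => ((e.symm z : N) : X)) htv
    simpa [v₀, map_mul] using h
  have htt : t * t = 1 := by
    have h := congrArg (fun z : A6 => ((e.symm z : N) : X)) ht2
    simpa [map_mul] using h
  set u := t * y with hud
  have huv : Commute v u := by
    refine (mul_inv_eq_iff_eq_mul.1 ?_ : u * v = v * u).symm
    rw [hud, show t * y * v * (t * y)⁻¹ = t * (y * v * y⁻¹) * t⁻¹ by group, hv,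
      show t * v⁻¹ * t⁻¹ = (t * v * t⁻¹)⁻¹ by group, inv_eq_of_mul_eq_one_right htt, htv', inv_inv]
  have huN : u ∉ N := fun h => hyN ((mul_mem_cancel_left htN).1 h)
  have h2u : 2 ∣ orderOf u := by
    rw [← even_iff_two_dvd, ← Nat.not_odd_iff_even]
    exact fun h => huN (hmem u h)
  have hv1 : v ≠ 1 := fun h => by rw [h, orderOf_one] at hvo; exact hp.ne_one hvo.symm
  exact H28.CITGraph.false_of_commute hG (exists_invol_pow h2u) (hvo ▸ hpodd) hv1
    (huv.pow_right _).symm

end H11.ThreeOrders
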