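import Cfsg.Agent.H28.CITGraph.Basic
import Cfsg.Agent.H64.ThreePrimes

/-!
Groups in which no prime divides three distinct element orders: elementary consequences.
-/

set_option autoImplicit false
set_option linter.unusedSectionVars false
set_option linter.style.haveILetI false

namespace H11.ThreeOrders

open Subgroup

universe u

variable {G : Type u} [Group G] [Finite G]

/-- No prime divides three distinct element orders. -/
def Cond (G : Type u) [Group G] : Prop :=
  ∀ p : ℕ, p.Prime → ∀ a b c : G, orderOf a ≠ orderOf b → orderOf b ≠ orderOf c →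
    orderOf a ≠ orderOf c → ¬ (p ∣ orderOf a ∧ p ∣ orderOf b ∧ p ∣ orderOf c)

theorem Cond.false_of (h : Cond G) {p : ℕ} (hp : p.Prime) {a b c : G} {i j k : ℕ}
    (ha : orderOf a = i) (hb : orderOf b = j) (hc : orderOf c = k)
    (hij : i ≠ j) (hjk : j ≠ k) (hik : i ≠ k) (hi : p ∣ i) (hj : p ∣ j) (hk : p ∣ k) : False := by
  subst ha hb hc
  exact h p hp a b c hij hjk hik ⟨hi, hj, hk⟩

theorem Cond.subgroup (h : Cond G) (H : Subgroup G) : Cond H := fun p hp a b c => by
  simp only [← orderOf_coe]
  exact h p hp (a : G) b c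

theorem Cond.of_injective (h : Cond G) {H : Type u} [Group H] {f : H →* G}
    (hf : Function.Injective f) : Cond H := fun p hp a b c => by
  simp only [← orderOf_injective f hf]
  exact h p hp (f a) (f b) (f c)

theorem Cond.quotient (h : Cond G) (N : Subgroup G) [N.Normal] : Cond (G ⧸ N) := fun p hp a b c => by
  obtain ⟨a', ha⟩ := H28.CITGraph.exists_lift_orderOf a
  obtain ⟨b', hb⟩ := H28.CITGraph.exists_lift_orderOf b
  obtain ⟨c', hc⟩ := H28.CITGraph.exists_lift_orderOf c
  rw [← ha, ← hb, ← hc]
  exact h p hp a' b' c'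

theorem orderOf_div (x : G) {d : ℕ} (hd : d ∣ orderOf x) : orderOf (x ^ (orderOf x / d)) = d :=
  orderOf_pow_orderOf_div (orderOf_pos x).ne' hd

/-- Element orders have at most two prime factors. -/
theorem Cond.length_le (h : Cond G) (x : G) : (orderOf x).primeFactorsList.length ≤ 2 := by
  by_contra hc
  set n := orderOf x with hn
  match hl : n.primeFactorsList, hc with
  | [], hc => simp at hc
  | [_], hc => simp at hc
  | [_, _], hc => simp at hc
  | a :: b :: c :: l, _ =>
    have hn0 : n ≠ 0 := (orderOf_pos x).ne'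
    have hprod := Nat.prod_primeFactorsList hn0
    rw [hl] at hprod
    simp only [List.prod_cons] at hprod
    have hpr : ∀ q ∈ n.primeFactorsList, q.Prime := fun q hq => Nat.prime_of_mem_primeFactorsList hq
    rw [hl] at hpr
    have ha : a.Prime := hpr a (by simp)
    have hb : b.Prime := hpr b (by simp)
    have hc' : c.Prime := hpr c (by simp)
    have hl0 : 0 < l.prod := Nat.pos_of_ne_zero fun e => by simp [e] at hprod; omega
    have d1 : a ∣ n := ⟨_, hprod.symm⟩
    have d2 : a * b ∣ n := ⟨c * l.prod, by rw [← hprod]; ring⟩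
    have h2 : 2 ≤ a := ha.two_le
    have h3 : a < a * b := lt_mul_right ha.pos hb.one_lt
    have h4 : a * b < n := by
      rw [← hprod, ← mul_assoc]
      refine lt_mul_right (Nat.mul_pos ha.pos hb.pos) ?_
      calc 1 < c := hc'.one_lt
        _ ≤ c * l.prod := Nat.le_mul_of_pos_right c hl0
    exact h.false_of ha (orderOf_div x d1) (orderOf_div x d2) rfl h3.ne h4.ne (by omega)
      dvd_rfl (dvd_mul_right a b) d1

/-- Even element orders. -/
theorem Cond.even_cases (h : Cond G) {x : G} (hx : 2 ∣ orderOf x) :
    orderOf x = 2 ∨ orderOf x = 4 ∨ ∃ q, q.Prime ∧ q ≠ 2 ∧ orderOf x = 2 * q := by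
  obtain ⟨m, hm⟩ := hx
  have hm0 : m ≠ 0 := by rintro rfl; have := orderOf_pos x; omega
  have hl := h.length_le x
  rw [hm, (Nat.perm_primeFactorsList_mul two_ne_zero hm0).length_eq,
    Nat.primeFactorsList_prime Nat.prime_two, List.length_append, List.length_singleton] at hl
  rcases eq_or_ne m 1 with rfl | h1
  · exact Or.inl (by rw [hm])
  have hp := Nat.minFac_prime h1
  have hmp : m = m.minFac := by
    obtain ⟨k, hk⟩ := Nat.minFac_dvd m
    have hk0 : k ≠ 0 := by rintro rfl; simp at hk; omega
    rw [hk, (Nat.perm_primeFactorsList_mul hp.ne_zero hk0).length_eq,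
      Nat.primeFactorsList_prime hp, List.length_append, List.length_singleton] at hl
    have : k.primeFactorsList = [] := List.length_eq_zero_iff.1 (by omega)
    rcases (Nat.primeFactorsList_eq_nil k).1 this with h | h
    · exact absurd h hk0
    · rw [hk, h, mul_one]
      exact (hp.minFac_eq).symm
  rcases eq_or_ne m 2 with rfl | h2
  · exact Or.inr (Or.inl hm)
  · exact Or.inr (Or.inr ⟨m, hmp ▸ hp, h2, hm⟩)

theorem exists_invol_pow {x : G} (hx : 2 ∣ orderOf x) : orderOf (x ^ (orderOf x / 2)) = 2 :=
  orderOf_div x hx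

/-- With an element of order four, centralisers of involutions are 2-groups. -/
theorem Cond.isCIT_of_four (h : Cond G) {g : G} (hg : orderOf g = 4) : H11.CIT.IsCIT G := by
  refine H28.CITGraph.isCIT_of_graph fun r hr hr2 ⟨y, hy⟩ => ?_
  have h2 : orderOf (g ^ 2) = 2 := by
    rw [orderOf_pow, hg]; norm_num
  have hr1 := hr.two_le
  exact h.false_of Nat.prime_two h2 hg hy (by norm_num) (by omega) (by omega) dvd_rfl
    (by norm_num) (dvd_mul_right 2 r)

/-- An element of order twice an odd prime excludes elements of order four and determines the prime. -/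
theorem Cond.two_mul_unique (h : Cond G) {x y : G} {q r : ℕ} (hq : q.Prime) (hr : r.Prime)
    (hx : orderOf x = 2 * q) (hy : orderOf y = 2 * r) : q = r := by
  by_contra hne
  have h2 := exists_invol_pow (x := x) (by rw [hx]; exact dvd_mul_right 2 q)
  have := hq.two_le
  have := hr.two_le
  exact h.false_of Nat.prime_two h2 hx hy (by omega) (by omega) (by omega) dvd_rfl
    (dvd_mul_right 2 q) (dvd_mul_right 2 r)

/-- In the CIT case all 2-elements have order at most four. -/
theorem Cond.two_power_le (h : Cond G) (x : G) {k : ℕ} (hx : orderOf x = 2 ^ k) : k ≤ 2 := by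
  have := h.length_le x
  rw [hx, Nat.Prime.primeFactorsList_pow Nat.prime_two, List.length_replicate] at this
  exact this

/-- Commuting elements of distinct prime orders give their product as an element order. -/
theorem exists_order_mul {x y : G} {r s : ℕ} (hr : r.Prime) (hs : s.Prime) (hne : r ≠ s)
    (hx : orderOf x = r) (hy : orderOf y = s) (hc : Commute x y) : ∃ z : G, orderOf z = r * s := by
  refine ⟨x * y, ?_⟩
  rw [hc.orderOf_mul_eq_mul_orderOf_of_coprime, hx, hy]
  rw [hx, hy]
  exact (Nat.coprime_primes hr hs).2 hne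

end H11.ThreeOrders
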