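import Cfsg.Agent.H11.ThreeOrders.Count
import Cfsg.Agent.H11.CIT.Local
import Cfsg.Agent.H2.FPFSubgroup
import Cfsg.Agent.H1.ThompsonComplement

/-!
Conditions forcing the 2-core of a CIT group to be trivial.
-/

set_option autoImplicit false
set_option linter.unusedSectionVars false
set_option linter.style.haveILetI false

namespace H11.ThreeOrders

open Subgroup H11.CIT

universe u

variable {G : Type u} [Group G] [Finite G]

theorem exists_elem_normal (h : Cfsg.pCore 2 G ≠ ⊥) :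
    ∃ W : Subgroup G, W.Normal ∧ W ≠ ⊥ ∧ W ≤ Cfsg.pCore 2 G ∧ ∀ x ∈ W, x * x = 1 := by
  haveI : Fact (Nat.Prime 2) := ⟨Nat.prime_two⟩
  haveI := H1.pCore_characteristic 2 G
  set V := Cfsg.pCore 2 G
  refine ⟨omegaZ V, ⟨fun x ⟨hx, hx2, hxc⟩ g => ⟨(inferInstance : V.Normal).conj_mem x hx g, ?_, fun d hd => ?_⟩⟩, ?_,
    fun x hx => hx.1, fun x hx => hx.2.1⟩
  · rw [show g * x * g⁻¹ * (g * x * g⁻¹) = g * (x * x) * g⁻¹ by group, hx2]; group
  · have h' := hxc (g⁻¹ * d * g) (by simpa using (inferInstance : V.Normal).conj_mem d hd g⁻¹)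
    calc g * x * g⁻¹ * d = g * (x * (g⁻¹ * d * g)) * g⁻¹ := by group
      _ = g * (g⁻¹ * d * g * x) * g⁻¹ := by rw [h']
      _ = d * (g * x * g⁻¹) := by group
  · haveI : Nontrivial V := (nontrivial_iff_ne_bot V).2 h
    haveI := (H1.isPGroup_pCore 2 G).center_nontrivial
    obtain ⟨z, hz, hz2⟩ := exists_invol (P := (center V).map V.subtype)
      ((((H1.isPGroup_pCore 2 G).to_subgroup _)).map _) (by
        rw [Ne, map_eq_bot_iff_of_injective _ V.subtype_injective]
        exact (nontrivial_iff_ne_bot _).1 inferInstance)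
    obtain ⟨c, hc, rfl⟩ := hz
    intro hbot
    have hmem : (c : G) ∈ omegaZ V := ⟨c.2, sq_eq_one hz2, fun d hd =>
      congrArg Subtype.val (mem_center_iff.1 hc ⟨d, hd⟩).symm⟩
    rw [hbot, mem_bot] at hmem
    exact H65.ne_one_of_two hz2 hmem

/-- A fixed-point-free subgroup that is abelian or of order a product of two primes is cyclic. -/
theorem cyclic_of_core (hG : IsCIT G) (h : Cfsg.pCore 2 G ≠ ⊥) (A : Subgroup G)
    (hodd : Odd (Nat.card A))
    (hA : IsMulCommutative A ∨ ∃ p q : ℕ, p.Prime ∧ q.Prime ∧ Nat.card A = p * q) : IsCyclic A := by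
  haveI : Fact (Nat.Prime 2) := ⟨Nat.prime_two⟩
  obtain ⟨W, hWn, hW1, hWle, hW2⟩ := exists_elem_normal h
  haveI : IsMulCommutative W := ⟨⟨fun a b => Subtype.ext
    ((show Elem W from hW2).comm a.2 b.2)⟩⟩
  refine H2.isCyclic_of_fpf_subgroup A W (normalizer_eq_top_iff.2 hWn ▸ le_top) hW1 (fun a ha ha1 => ?_) hA
  rw [eq_bot_iff]
  rintro v ⟨hvW, hv⟩
  exact mem_bot.2 (hG.fpf' (H1.isPGroup_pCore 2 G)
    (hodd.of_dvd_nat (Subgroup.orderOf_dvd_natCard _ ha)) ha1 (hWle hvW) (mem_cent.1 hv).symm)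

theorem coprime_core {p : ℕ} [hp : Fact p.Prime] (hp2 : p ≠ 2) : (Nat.card (Cfsg.pCore 2 G)).Coprime p := by
  haveI : Fact (Nat.Prime 2) := ⟨Nat.prime_two⟩
  obtain ⟨k, hk⟩ := H1.card_pCore_eq_pow 2 G
  rw [hk]
  exact Nat.Coprime.pow_left _ ((Nat.coprime_primes Nat.prime_two hp.out).2 (Ne.symm hp2))

theorem orderOf_mk_core [(Cfsg.pCore 2 G).Normal] {x : G} (hx : Odd (orderOf x)) :
    orderOf (x : G ⧸ Cfsg.pCore 2 G) = orderOf x := by
  haveI : Fact (Nat.Prime 2) := ⟨Nat.prime_two⟩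
  refine Nat.dvd_antisymm (orderOf_map_dvd (QuotientGroup.mk' _) x) ?_
  have h1 : x ^ orderOf (x : G ⧸ Cfsg.pCore 2 G) ∈ Cfsg.pCore 2 G :=
    (QuotientGroup.eq_one_iff _).1 (by rw [QuotientGroup.mk_pow, pow_orderOf_eq_one])
  exact orderOf_dvd_of_pow_eq_one (eq_one_of_odd_mem (H1.isPGroup_pCore 2 G) h1
    (hx.of_dvd_nat (orderOf_pow_dvd _)))

/-- A noncyclic Sylow 3-subgroup of order nine in the quotient. -/
theorem core_bot_of_nine (hG : IsCIT G) [(Cfsg.pCore 2 G).Normal] [Fact (Nat.Prime 3)]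
    (Q : Sylow 3 (G ⧸ Cfsg.pCore 2 G)) (hQ : Nat.card Q = 9) (hnc : ¬ IsCyclic Q) :
    Cfsg.pCore 2 G = ⊥ := by
  by_contra h
  obtain ⟨T⟩ : Nonempty (Sylow 3 G) := inferInstance
  set V := Cfsg.pCore 2 G
  have hT : IsPGroup 3 (T : Subgroup G) := T.isPGroup'
  obtain ⟨k, hk⟩ := IsPGroup.iff_card.1 hT
  have hTodd : Odd (Nat.card T) := hk ▸ Odd.pow (by decide)
  let f : (T : Subgroup G) →* G ⧸ V := (QuotientGroup.mk' V).comp (T : Subgroup G).subtype
  have hf : Function.Injective f := by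
    rw [← MonoidHom.ker_eq_bot_iff, eq_bot_iff]
    intro x hx
    have : (x : G) ∈ V := (QuotientGroup.eq_one_iff (x : G)).1 hx
    exact mem_bot.2 (Subtype.ext (eq_one_of_odd_mem (H1.isPGroup_pCore 2 G) this
      (hTodd.of_dvd_nat (Subgroup.orderOf_dvd_natCard _ x.2))))
  set Tb := T.mapSurjective (f := QuotientGroup.mk' V) (QuotientGroup.mk'_surjective V)
  have hrange : f.range = (Tb : Subgroup (G ⧸ V)) := by
    rw [MonoidHom.range_comp, range_subtype]; rfl
  let e : (T : Subgroup G) ≃* Q :=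
    ((MonoidHom.ofInjective hf).trans (MulEquiv.subgroupCongr hrange)).trans (Tb.equiv Q)
  have h9 : Nat.card T = 3 ^ 2 := by rw [Nat.card_congr e.toEquiv, hQ]; norm_num
  have hab : IsMulCommutative (T : Subgroup G) := ⟨⟨IsPGroup.commutative_of_card_eq_prime_sq h9⟩⟩
  exact hnc (e.isCyclic.1 (cyclic_of_core hG h T hTodd (Or.inl hab)))

/-- No element of order four inverts by squaring an element of odd prime order, if elements have
2-exponent four and the 2-core is nontrivial. -/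
theorem core_bot_of_four (hG : IsCIT G) (hexp : ∀ (x : G) (k : ℕ), orderOf x = 2 ^ k → k ≤ 2)
    {x g : G} (hxo : Odd (orderOf x)) (hx1 : x ≠ 1) (hg : orderOf g = 4)
    (hinv : g * g * x * (g * g)⁻¹ = x⁻¹) : Cfsg.pCore 2 G = ⊥ := by
  classical
  haveI : Fact (Nat.Prime 2) := ⟨Nat.prime_two⟩
  by_contra h
  obtain ⟨W, hWn, hW1, hWle, hW2⟩ := exists_elem_normal h
  have hWp : IsPGroup 2 W := (H1.isPGroup_pCore 2 G).to_le hWle
  have hcomm : ∀ v ∈ W, ∀ w ∈ W, v * w = w * v := fun v hv w hw => (show Elem W from hW2).comm hv hw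
  have hWinv : ∀ v ∈ W, v⁻¹ = v := fun v hv => inv_eq_of_mul_eq_one_right (hW2 v hv)
  -- the endomorphism `v ↦ v (g v g⁻¹)`
  let φ : W →* W :=
    { toFun := fun v => ⟨(v : G) * (g * v * g⁻¹), mul_mem v.2 (hWn.conj_mem _ v.2 g)⟩
      map_one' := Subtype.ext (by simp)
      map_mul' := fun a b => Subtype.ext (by
        show (a : G) * b * (g * (a * b) * g⁻¹) = a * (g * a * g⁻¹) * (b * (g * b * g⁻¹))
        rw [show g * ((a : G) * b) * g⁻¹ = (g * a * g⁻¹) * (g * b * g⁻¹) by group]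
        calc (a : G) * b * (g * a * g⁻¹ * (g * b * g⁻¹))
            = a * (b * (g * a * g⁻¹)) * (g * b * g⁻¹) := by group
          _ = a * (g * a * g⁻¹ * b) * (g * b * g⁻¹) := by rw [hcomm b b.2 _ (hWn.conj_mem _ a.2 g)]
          _ = _ := by group) }
  let ψ : W →* W := φ.comp φ
  have hψ : ∀ v : W, ((ψ v : W) : G) = v * (g * g * v * (g * g)⁻¹) := by
    intro v
    show (v : G) * (g * v * g⁻¹) * (g * (v * (g * v * g⁻¹)) * g⁻¹) = _
    have hc := hW2 _ (hWn.conj_mem _ v.2 g)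
    calc (v : G) * (g * v * g⁻¹) * (g * (v * (g * v * g⁻¹)) * g⁻¹)
        = v * ((g * v * g⁻¹) * (g * v * g⁻¹)) * (g * g * v * (g * g)⁻¹) := by group
      _ = _ := by rw [hc, mul_one]
  have hcard : Nat.card ψ.ker * Nat.card ψ.ker ≤ Nat.card W := by
    set U := ψ.ker.map W.subtype with hU
    rw [← card_map_of_injective W.subtype_injective (K := ψ.ker), ← hU]
    refine hG.card_fix_sq hWp hinv hxo hx1 (le_inf (map_subtype_le _) ?_)
      (fun q hq => hWn.conj_mem _ (map_subtype_le _ hq) x)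
    rintro _ ⟨v, hv, rfl⟩
    refine mem_cent.2 ?_
    have h1 : (v : G) * (g * g * v * (g * g)⁻¹) = 1 := by
      rw [← hψ]; exact congrArg Subtype.val (show ψ v = 1 from hv)
    have h2 : g * g * v * (g * g)⁻¹ = v := (inv_eq_of_mul_eq_one_right h1).symm.trans (hWinv v v.2)
    exact (mul_inv_eq_iff_eq_mul.1 h2).symm
  have hker : φ.ker ≤ ψ.ker := fun v hv => by
    show φ (φ v) = 1
    rw [show φ v = 1 from hv, map_one]
  -- all `v g` have order at most four
  have hrange : φ.range ≤ ψ.ker := by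
    rintro _ ⟨v, rfl⟩
    have hpow : ((v : G) * g) ^ 4 = 1 := by
      have h2 : ∃ k, orderOf ((v : G) * g) = 2 ^ k := by
        obtain ⟨V', hV'⟩ : ∃ S : Sylow 2 G, W ⊔ zpowers g ≤ S := by
          refine IsPGroup.exists_le_sylow ?_
          refine IsPGroup.to_sup_of_normal_left' hWp (IsPGroup.of_card (n := 2) ?_) ?_
          · rw [Nat.card_zpowers, hg]; norm_num
          · exact normalizer_eq_top_iff.2 hWn ▸ le_top
        exact orderOf_eq_two_pow V'.isPGroup' (hV' (mul_mem (mem_sup_left v.2) (mem_sup_right (mem_zpowers g))))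
      obtain ⟨k, hk⟩ := h2
      have := hexp _ k hk
      exact orderOf_dvd_iff_pow_eq_one.1 (hk ▸ (pow_dvd_pow 2 this).trans (by norm_num))
    have hg4 : g * g * (g * g) = 1 := by
      have := pow_orderOf_eq_one g
      rw [hg] at this
      simpa [pow_succ, mul_assoc] using this
    show ψ (φ v) = 1
    apply Subtype.ext
    rw [hψ]
    show (v : G) * (g * v * g⁻¹) * (g * g * ((v : G) * (g * v * g⁻¹)) * (g * g)⁻¹) = 1
    calc (v : G) * (g * v * g⁻¹) * (g * g * ((v : G) * (g * v * g⁻¹)) * (g * g)⁻¹)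
        = (v * g) * (v * g) * ((v * g) * (v * g)) * (g * g * (g * g))⁻¹ := by group
      _ = 1 := by
        rw [hg4, inv_one, mul_one]
        simpa [pow_succ, mul_assoc] using hpow
  have hprod : Nat.card W = Nat.card φ.ker * Nat.card φ.range := by
    rw [← Subgroup.index_ker, Subgroup.card_mul_index]
  have h1 : Nat.card φ.ker = Nat.card ψ.ker := by
    have a := card_le_of_le hker
    have b := card_le_of_le hrange
    have : 0 < Nat.card φ.range := Nat.card_pos
    nlinarith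
  have h2 : φ.range = φ.ker := by
    have e := eq_of_le_of_card_ge hker h1.ge
    rw [e]
    refine eq_of_le_of_card_ge hrange ?_
    have : 0 < Nat.card ψ.ker := Nat.card_pos
    nlinarith
  have htop : ψ.ker = ⊤ := eq_top_iff.2 fun v _ => h2.le ⟨v, rfl⟩
  rw [htop, Subgroup.card_top] at hcard
  have h3 : 1 < Nat.card W := Finite.one_lt_card_iff_nontrivial.2 ((nontrivial_iff_ne_bot W).2 hW1)
  nlinarith

end H11.ThreeOrders
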