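import Cfsg.Agent.H11.ThreeOrders.Socle
import Cfsg.Agent.H11.ThreeOrders.NoCore
import Cfsg.Agent.H11.CIT.Class
import Cfsg.Agent.H28.CITGraph.Main
import Cfsg.Prelude.Def_Exceptional
import Cfsg.Prelude.Def_CaseTheorems

/-!
The CIT case of the groups in which no prime divides three element orders.
-/

set_option autoImplicit false
set_option linter.unusedSectionVars false
set_option linter.style.haveILetI false

namespace H11.ThreeOrders

open Subgroup H11.CIT

universe u

/-- The possible conclusions. -/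
def Outcome (G : Type u) [Group G] : Prop :=
  (∃ (F : Type) (_ : Field F) (_ : Fintype F), CharP F 2 ∧ 4 ≤ Fintype.card F ∧
      (Fintype.card F + 1).primeFactorsList.length ≤ 2 ∧ (Fintype.card F - 1).primeFactorsList.length ≤ 2 ∧
      Nonempty (G ⧸ Cfsg.pCore 2 G ≃* Matrix.ProjectiveSpecialLinearGroup (Fin 2) F)) ∨
  (∃ (F : Type) (_ : Field F) (_ : Fintype F), 5 < Fintype.card F ∧ (Fintype.card F % 8 = 3 ∨ Fintype.card F % 8 = 5) ∧
      ((Fintype.card F + 1) / 2).primeFactorsList.length ≤ 2 ∧ ((Fintype.card F - 1) / 2).primeFactorsList.length ≤ 2 ∧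
      Nonempty (G ≃* Matrix.ProjectiveSpecialLinearGroup (Fin 2) F)) ∨
  (∃ (F : Type) (_ : Field F) (_ : Fintype F), (Fintype.card F = 7 ∨ Fintype.card F = 9) ∧
      Nonempty (G ≃* Matrix.ProjectiveSpecialLinearGroup (Fin 2) F)) ∨
  (∃ (F : Type) (_ : Field F) (_ : Fintype F), Fintype.card F = 4 ∧ Nonempty (G ≃* Matrix.ProjectiveSpecialLinearGroup (Fin 3) F)) ∨
  (∃ n : ℕ, 1 ≤ n ∧ IsSimpleGroup G ∧ Nat.card G = (2 ^ (2 * n + 1)) ^ 2 * ((2 ^ (2 * n + 1)) ^ 2 + 1) * (2 ^ (2 * n + 1) - 1) ∧
      (2 ^ (2 * n + 1) - 1).primeFactorsList.length ≤ 2 ∧ (2 ^ (2 * n + 1) - 2 ^ (n + 1) + 1).primeFactorsList.length ≤ 2 ∧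
      (2 ^ (2 * n + 1) + 2 ^ (n + 1) + 1).primeFactorsList.length ≤ 2)

variable {X : Type u} [Group X] [Finite X]

theorem Cond.of_equiv (h : Cond X) {L : Type*} [Group L] (e : X ≃* L) (x : L) :
    (orderOf x).primeFactorsList.length ≤ 2 := by
  rw [← MulEquiv.orderOf_eq e.symm x]
  exact h.length_le _

/-- The lengths for `PSL₂`. -/
theorem psl2_lengths (h : Cond X) {F : Type*} [Field F] [Fintype F]
    (e : X ≃* Matrix.ProjectiveSpecialLinearGroup (Fin 2) F) :
    ((Fintype.card F + 1) / Nat.gcd 2 (Fintype.card F - 1)).primeFactorsList.length ≤ 2 ∧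
    ((Fintype.card F - 1) / Nat.gcd 2 (Fintype.card F - 1)).primeFactorsList.length ≤ 2 := by
  obtain ⟨p, hp⟩ := CharP.exists F
  haveI := hp
  haveI := Fact.mk (CharP.char_is_prime F p)
  have key : ∀ m ∈ Set.range (orderOf : Matrix.ProjectiveSpecialLinearGroup (Fin 2) F → ℕ),
      m.primeFactorsList.length ≤ 2 := by
    rintro _ ⟨x, rfl⟩
    exact h.of_equiv e x
  rw [H64.psl2_spectrum p] at key
  exact ⟨key _ (Or.inr (Or.inr dvd_rfl)), key _ (Or.inr (Or.inl dvd_rfl))⟩

variable {G : Type u} [Group G] [Finite G]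

theorem mk_core_equiv (h : Cfsg.pCore 2 G = ⊥) : Nonempty (G ≃* G ⧸ Cfsg.pCore 2 G) :=
  ⟨(QuotientGroup.quotientBot.symm.trans (QuotientGroup.quotientMulEquivOfEq h.symm))⟩

set_option maxHeartbeats 800000 in
theorem cit_case (h : Cond G) (hG : IsCIT G) (hns : ¬ Group.IsSolvable G) : Outcome G := by
  classical
  haveI : Fact (Nat.Prime 2) := ⟨Nat.prime_two⟩
  haveI : Fact (Nat.Prime 3) := ⟨Nat.prime_three⟩
  set X := G ⧸ Cfsg.pCore 2 G
  have hX : IsCIT X := H28.CITGraph.isCIT_quotient hG _
  have hcX : Cond X := h.quotient _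
  have hns' : ¬ Group.IsSolvable X := by
    intro hs
    apply hns
    haveI := (H1.isPGroup_pCore 2 G).isNilpotent
    exact Group.isSolvable_of_ker_le_range (Cfsg.pCore 2 G).subtype (QuotientGroup.mk' (Cfsg.pCore 2 G))
      (by simp)
  obtain ⟨N, hNn, hNs, hNc, hC⟩ := H28.CITGraph.exists_simple hX hns' (H1.pCore_quotient_pCore 2 G)
  haveI := hNn
  haveI := hNs
  have htop : N = ⊤ → Nonempty (N ≃* X) := fun e => ⟨(MulEquiv.subgroupCongr e).trans Subgroup.topEquiv⟩
  -- characteristic two
  have two : ∀ (E : Type) [Field E] [Fintype E] (n : ℕ), 2 ≤ n → Fintype.card E = 2 ^ n →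
      ∀ e : N ≃* Matrix.ProjectiveSpecialLinearGroup (Fin 2) E, Outcome G := by
    intro E _ _ n hn hE e
    haveI := H28.CITGraph.charTwo_of_card hE
    obtain ⟨u₀, hu, hfix⟩ := H28.CITGraph.psl2_aut_fix (F := E)
    have hN : N = ⊤ := H28.CITGraph.eq_top_of_aut hX N hC e hu fun α => by
      obtain ⟨s, h1, w, hw⟩ := hfix α
      exact ⟨s, h1, Or.inl ⟨w, hw⟩⟩
    obtain ⟨i⟩ := htop hN
    have h4 : 4 ≤ Fintype.card E := hE ▸ Nat.pow_le_pow_right (show 0 < 2 by norm_num) hn
    obtain ⟨h1, h2⟩ := psl2_lengths hcX (i.symm.trans e)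
    have hg : Nat.gcd 2 (Fintype.card E - 1) = 1 := by
      rw [← Nat.coprime_iff_gcd_eq_one, Nat.coprime_two_left, Nat.odd_iff]
      have : 2 ∣ Fintype.card E := hE ▸ dvd_pow_self 2 (by omega)
      omega
    rw [hg, Nat.div_one] at h1 h2
    exact Or.inl ⟨E, inferInstance, inferInstance, inferInstance, h4, h1, h2, ⟨i.symm.trans e⟩⟩
  rcases citClass N hNc (hX.subgroup N) with ⟨E, iE, jE, hE, ⟨e⟩⟩ | ⟨E, iE, jE, hE, ⟨e⟩⟩ |
      ⟨E, iE, jE, m, hm, hE, ⟨e⟩⟩
  · rcases hE with hE | ⟨n, hn⟩ | ⟨hp, k, hk⟩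
    · -- `A₆`
      obtain ⟨i⟩ := H37.PSL2_nine_mulEquiv_alternating hE
      have hN := a6_top hX hcX N hNc hC (e.trans i)
      obtain ⟨j⟩ := htop hN
      have hV : Cfsg.pCore 2 G = ⊥ := by
        have hc : Nat.card X = 360 := by rw [← Nat.card_congr j.toEquiv, Nat.card_congr (e.trans i).toEquiv, card_a6]
        have hQ := H59.CIT.sylow_card_of_eq (s := 3) (a := 2) (b := 40) (by rw [hc]; norm_num) (by norm_num)
          (default : Sylow 3 X)
        refine core_bot_of_nine hG default (hQ.trans (by norm_num)) fun hcyc => ?_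
        obtain ⟨z, hz⟩ := hcyc.exists_ofOrder_eq_natCard
        rw [← orderOf_coe, hQ] at hz
        have hmem : (3 ^ 2 : ℕ) ∈ Set.range (orderOf : Matrix.ProjectiveSpecialLinearGroup (Fin 2) E → ℕ) :=
          ⟨(j.symm.trans e) z, by rw [MulEquiv.orderOf_eq]; exact hz⟩
        haveI : Fact (Nat.Prime 3) := ⟨Nat.prime_three⟩
        haveI : CharP E 3 := by
          obtain ⟨p, hp⟩ := CharP.exists E
          haveI := hp
          obtain ⟨f, hpr, hf⟩ := FiniteField.card E p
          have : p ∣ 3 ^ 2 := by rw [show (3 : ℕ) ^ 2 = 9 by norm_num, ← hE, hf]; exact dvd_pow_self p f.pos.ne'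
          obtain rfl := (Nat.prime_dvd_prime_iff_eq hpr Nat.prime_three).1 (hpr.dvd_of_dvd_pow this)
          exact hp
        rw [H64.psl2_spectrum 3, hE] at hmem
        norm_num at hmem
      obtain ⟨c⟩ := mk_core_equiv hV
      exact Or.inr (Or.inr (Or.inl ⟨E, iE, jE, Or.inr hE, ⟨c.trans (j.symm.trans e)⟩⟩))
    · rcases Nat.lt_or_ge n 2 with h2 | h2
      · exfalso
        have := Fintype.one_lt_card (α := E)
        interval_cases n
        · simp at hn; omega
        · exact H59.CIT.psl2_small_not hNc e (Or.inl (by rw [hn]; norm_num))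
      · exact two E n h2 hn e
    · -- Fermat and Mersenne primes
      set q := Fintype.card E with hq
      have hq2 : q ≠ 2 := fun h' => H59.CIT.psl2_small_not hNc e (Or.inl h')
      have hq3 : q ≠ 3 := fun h' => H59.CIT.psl2_small_not hNc e (Or.inr h')
      have hodd : q % 2 = 1 := Nat.odd_iff.1 (hp.odd_of_ne_two hq2)
      have := hp.two_le
      have hk2 : k ≤ 3 := by
        by_contra hk4
        obtain ⟨l, rfl⟩ : ∃ l, k = l + 1 := ⟨k - 1, by omega⟩
        obtain ⟨h1, h2⟩ := psl2_lengths (hcX.subgroup N) e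
        have hg : Nat.gcd 2 (q - 1) = 2 := Nat.gcd_eq_left (by omega)
        rw [← hq, hg] at h1 h2
        rw [pow_succ] at hk
        rcases hk with hk | hk
        · rw [show (q - 1) / 2 = 2 ^ l by omega, Nat.Prime.primeFactorsList_pow Nat.prime_two,
            List.length_replicate] at h2
          omega
        · rw [show (q + 1) / 2 = 2 ^ l by omega, Nat.Prime.primeFactorsList_pow Nat.prime_two,
            List.length_replicate] at h1
          omega
      have hq57 : q = 5 ∨ q = 7 := by
        have h9 : q ≠ 9 := fun h' => by rw [h'] at hp; norm_num at hp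
        interval_cases k <;> omega
      rcases hq57 with h5 | h7
      · -- `A₅`
        obtain ⟨i⟩ := H37.PSL2_five_mulEquiv_alternating (F := E) h5
        letI := Fintype.ofFinite (GaloisField 2 2)
        have h4 : Fintype.card (GaloisField 2 2) = 2 ^ 2 := by
          rw [← Nat.card_eq_fintype_card, GaloisField.card 2 2 (by norm_num)]
        obtain ⟨i'⟩ := H37.PSL2_four_mulEquiv_alternating (F := GaloisField 2 2)
          (by rw [Nat.card_eq_fintype_card, h4]; norm_num)
        exact two _ 2 le_rfl h4 ((e.trans i).trans i'.symm)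
      · -- `PSL₂(7)`
        have hN := psl7_top hX N hNc hC h7 e
        obtain ⟨j⟩ := htop hN
        have hV : Cfsg.pCore 2 G = ⊥ := by
          by_contra hV
          haveI : Fact (Nat.Prime 7) := ⟨by norm_num⟩
          have hcX7 : Nat.card X = 168 := by
            have h' := H37.card_PSL_two (F := E)
            rw [Nat.card_eq_fintype_card (α := E), ← hq, h7, ← Nat.card_congr e.toEquiv,
              Nat.card_congr j.toEquiv] at h'
            norm_num at h'
            omega
          obtain ⟨a, ha⟩ := H1.card_pCore_eq_pow 2 G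
          have hcard : Nat.card G = 7 ^ 1 * (24 * 2 ^ a) := by
            rw [Subgroup.card_eq_card_quotient_mul_card_subgroup (Cfsg.pCore 2 G), ha, hcX7]; ring
          have h7n : ¬ 7 ∣ 24 * 2 ^ a := by
            intro h'
            rcases (Nat.Prime.dvd_mul (by norm_num)).1 h' with h' | h'
            · norm_num at h'
            · have := Nat.le_of_dvd two_pos ((by norm_num : Nat.Prime 7).dvd_of_dvd_pow h'); omega
          obtain ⟨T⟩ : Nonempty (Sylow 7 G) := inferInstance
          have hT := H59.CIT.sylow_card_of_eq hcard h7n T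
          rw [pow_one] at hT
          -- three divides the order of the normaliser
          have h3 : 3 ∣ Nat.card (normalizer ((T : Subgroup G) : Set G)) := by
            by_contra h3
            have hidx := (normalizer ((T : Subgroup G) : Set G)).card_mul_index
            have hn1 := card_sylow_modEq_one 7 G
            rw [T.card_eq_index_normalizer] at hn1
            set i := (normalizer ((T : Subgroup G) : Set G)).index
            have h7i : ¬ 7 ∣ i := fun h' => by
              have := (Nat.modEq_zero_iff_dvd.2 h').symm.trans hn1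
              exact absurd this (by decide)
            have hid : i ∣ 2 ^ (a + 3) * 3 := by
              have : i ∣ 7 * (2 ^ (a + 3) * 3) := ⟨_, (by rw [mul_comm i, hidx, hcard]; ring :
                7 * (2 ^ (a + 3) * 3) = i * Nat.card (normalizer ((T : Subgroup G) : Set G)))⟩
              exact ((Nat.Prime.coprime_iff_not_dvd (by norm_num)).2 h7i).symm.dvd_of_dvd_mul_left this
            have h3i : 3 ∣ i := by
              have : 3 ∣ Nat.card G := by rw [hcard]; exact dvd_mul_of_dvd_right (dvd_mul_of_dvd_left (by norm_num) _) _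
              rw [← hidx] at this
              exact (Nat.prime_three.dvd_mul.1 this).resolve_left h3
            obtain ⟨c, hc⟩ := h3i
            rw [hc, mul_comm (2 ^ (a + 3)) 3] at hid
            obtain ⟨b, -, hb⟩ := (Nat.dvd_prime_pow Nat.prime_two).1 (Nat.dvd_of_mul_dvd_mul_left (by norm_num) hid)
            replace hn1 : i ≡ 1 [MOD 7] := hn1
            rw [hc, hb, Nat.ModEq] at hn1
            have hper : ∀ b, 3 * 2 ^ b % 7 = 3 ∨ 3 * 2 ^ b % 7 = 6 ∨ 3 * 2 ^ b % 7 = 5 := by
              intro b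
              induction b with
              | zero => simp
              | succ b ih => rw [pow_succ]; omega
            have := hper b
            omega
          obtain ⟨⟨y, hy⟩, hy3⟩ := exists_prime_orderOf_dvd_card' (G := normalizer ((T : Subgroup G) : Set G)) 3 h3
          rw [orderOf_mk] at hy3
          set A := zpowers y ⊔ (T : Subgroup G)
          have hA : Nat.card A = 3 * 7 := by
            have hd1 : 3 ∣ Nat.card A := hy3 ▸ Subgroup.orderOf_dvd_natCard _ (mem_sup_left (mem_zpowers y))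
            have hd2 : 7 ∣ Nat.card A := hT ▸ card_dvd_of_le le_sup_right
            refine Nat.dvd_antisymm ?_ (Nat.Coprime.mul_dvd_of_dvd_of_dvd (by norm_num) hd1 hd2)
            set Y := normalizer ((T : Subgroup G) : Set G)
            have hAY : A ≤ Y := sup_le (zpowers_le.2 hy) le_normalizer
            haveI : ((T : Subgroup G).subgroupOf Y).Normal := normal_subgroupOf_of_le_normalizer le_rfl
            have := H1.card_sup_dvd_mul ((zpowers y).subgroupOf Y) ((T : Subgroup G).subgroupOf Y)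
            rw [← Subgroup.subgroupOf_sup (zpowers_le.2 hy) le_normalizer,
              Nat.card_congr (subgroupOfEquivOfLe hAY).toEquiv,
              Nat.card_congr (subgroupOfEquivOfLe (zpowers_le.2 hy)).toEquiv,
              Nat.card_congr (subgroupOfEquivOfLe le_normalizer).toEquiv, Nat.card_zpowers, hy3, hT] at this
            exact this
          have hAodd : Odd (Nat.card A) := by rw [hA]; decide
          obtain ⟨z, hz⟩ := (cyclic_of_core hG hV A hAodd
            (Or.inr ⟨3, 7, Nat.prime_three, by norm_num, hA⟩)).exists_ofOrder_eq_natCard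
          rw [← orderOf_coe, hA] at hz
          have hz' : orderOf ((z : G) : X) = 21 := by rw [orderOf_mk_core (by rw [hz]; decide), hz]
          have hmem : 21 ∈ Set.range (orderOf : Matrix.ProjectiveSpecialLinearGroup (Fin 2) E → ℕ) :=
            ⟨(j.symm.trans e) _, by rw [MulEquiv.orderOf_eq]; exact hz'⟩
          haveI : CharP E 7 := by
            haveI : Fact (Nat.card E).Prime := ⟨by rw [Nat.card_eq_fintype_card]; exact hp⟩
            exact charP_of_card_eq_prime h7
          rw [H64.psl2_spectrum 7, ← hq, h7] at hmem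
          norm_num at hmem
        obtain ⟨c⟩ := mk_core_equiv hV
        exact Or.inr (Or.inr (Or.inl ⟨E, iE, jE, Or.inl h7, ⟨c.trans (j.symm.trans e)⟩⟩))
  · -- `PSL₃(4)`
    have hN := psl34_top hX hcX N hE e
    obtain ⟨j⟩ := htop hN
    have hV : Cfsg.pCore 2 G = ⊥ := by
      obtain ⟨P, hP, -, hncy, -⟩ := H59.CIT.psl34_three hE
      let f := j.symm.trans e
      have hi : ¬ 3 ∣ (P.map f.symm.toMonoidHom).index := by
        have h' := (P.map f.symm.toMonoidHom).card_mul_index
        rw [card_map_of_injective (f := f.symm.toMonoidHom) f.symm.injective, hP, Nat.card_congr f.toEquiv,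
          H59.CIT.card_psl34 hE] at h'
        omega
      have hcP : Nat.card (P.map f.symm.toMonoidHom) = 9 := by
        rw [card_map_of_injective (f := f.symm.toMonoidHom) f.symm.injective, hP]
      exact core_bot_of_nine hG ((IsPGroup.of_card (n := 2) (hcP.trans (by norm_num))).toSylow hi) hcP fun hcyc =>
        hncy ((P.equivMapOfInjective _ f.symm.injective).isCyclic.2 hcyc)
    obtain ⟨c⟩ := mk_core_equiv hV
    exact Or.inr (Or.inr (Or.inr (Or.inl ⟨E, iE, jE, hE, ⟨c.trans (j.symm.trans e)⟩⟩)))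
  · -- Suzuki groups
    let e' := e.trans (H57.lieSzEquiv hm hE).symm
    obtain ⟨u₀, hu, hfix⟩ := H28.CITGraph.sz_aut_fix hm hE
    have hN : N = ⊤ := H28.CITGraph.eq_top_of_aut hX N hC e' hu fun α => by
      obtain ⟨s, h1, w, hw⟩ := hfix α
      exact ⟨s, h1, Or.inl ⟨w, hw⟩⟩
    obtain ⟨j⟩ := htop hN
    let f : X ≃* Cfsg.Sz E m := j.symm.trans e'
    obtain ⟨Ap, Am, hAp, hAm, hcp, hcm, -, hN4⟩ := H57.tor_summary hm hE
    have hlen : ∀ A : Subgroup (Cfsg.Sz E m), IsCyclic A → (Nat.card A).primeFactorsList.length ≤ 2 := by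
      intro A hA
      obtain ⟨z, hz⟩ := hA.exists_ofOrder_eq_natCard
      rw [← hz, ← orderOf_coe]
      exact hcX.of_equiv f z
    have hcyc : ∀ A : Subgroup (Cfsg.Sz E m), H57.IsTor A → IsCyclic A := by
      rintro A ⟨g, hg, rfl⟩
      exact H57.torEl_centralizer_cyclic hE hg
    have hV : Cfsg.pCore 2 G = ⊥ := by
      obtain ⟨g₀, hg₀, hApg⟩ := hAp
      have hApTor : H57.IsTor Ap := ⟨g₀, hg₀, hApg⟩
      have hpp := hg₀.1
      haveI := Fact.mk hpp
      set p := orderOf g₀ with hpd
      have hp2 : p ≠ 2 := H57.torEl_ne_two hg₀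
      have hg1 := H57.torEl_ne_one hg₀
      have hAodd : Odd (Nat.card Ap) := by
        rw [hcp, Nat.odd_iff]
        have := H57.q_even m
        have : 2 ∣ 2 ^ (m + 1) := dvd_pow_self 2 (by omega)
        omega
      -- a cyclic group of order four on `g₀`
      set N4 := normalizer (Ap : Set (Cfsg.Sz E m))
      obtain ⟨Q, hQ⟩ := Sylow.exists_subgroup_card_pow_prime (G := N4) 2 (n := 2)
        ⟨Nat.card Ap, by rw [hN4 Ap hApTor]; norm_num⟩
      set Q' := Q.map N4.subtype
      set Z := zpowers g₀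
      have hg₀A : g₀ ∈ Ap := hApg ▸ H57.mem_cent_self g₀
      have hQn : Q' ≤ normalizer (Z : Set (Cfsg.Sz E m)) := by
        rintro _ ⟨n, -, rfl⟩
        refine mem_normalizer_iff_map_conj_eq.2 (eq_of_le_of_card_ge ?_ ?_)
        · rw [MonoidHom.map_zpowers, zpowers_le]
          exact H57.cyclic_sub_normalized (hcyc Ap hApTor) (zpowers_le.2 hg₀A) n.2 (mem_zpowers g₀)
        · rw [card_map_of_injective (MulAut.conj (N4.subtype n)).injective]
      let φ : Q' →* MulAut Z := Z.normalizerMonoidHom.comp (inclusion hQn)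
      have hφ : Function.Injective φ := by
        rw [← MonoidHom.ker_eq_bot_iff, eq_bot_iff]
        intro x hx
        have h1 : inclusion hQn x ∈ Z.normalizerMonoidHom.ker := hx
        rw [Subgroup.normalizerMonoidHom_ker] at h1
        have h2 : (x : Cfsg.Sz E m) ∈ Ap := by
          rw [hApg]
          exact mem_cent.2 ((mem_centralizer_iff.1 h1 g₀ (mem_zpowers g₀)).symm)
        refine mem_bot.2 (Subtype.ext (eq_one_of_odd_mem (IsPGroup.of_card (n := 2) ?_) x.2
          (hAodd.of_dvd_nat (Subgroup.orderOf_dvd_natCard _ h2))))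
        rw [card_map_of_injective N4.subtype_injective, hQ]
      haveI : IsCyclic Z := isCyclic_of_prime_card (p := p) (Nat.card_zpowers g₀)
      haveI : Fact (Nat.Prime (Nat.card Z)) := ⟨by rw [Nat.card_zpowers]; exact hpp⟩
      haveI : IsCyclic (MulAut Z) := (IsCyclic.mulAutMulEquiv Z).isCyclic.2 inferInstance
      haveI : IsCyclic Q' := isCyclic_of_injective φ hφ
      obtain ⟨b, hb⟩ := IsCyclic.exists_ofOrder_eq_natCard (α := Q')
      rw [card_map_of_injective N4.subtype_injective, hQ] at hb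
      have hb4 : orderOf (b : Cfsg.Sz E m) = 4 := by rw [orderOf_coe, hb]; norm_num
      have hbn : (b : Cfsg.Sz E m) ∈ normalizer (Z : Set (Cfsg.Sz E m)) := hQn b.2
      -- lift to `G`
      set xb := f.symm g₀
      set gb := f.symm (b : Cfsg.Sz E m)
      obtain ⟨x₀, hx₀, hx₀'⟩ : ∃ x : G, orderOf x = p ∧ (x : X) = xb := by
        obtain ⟨x, hx⟩ := QuotientGroup.mk_surjective xb
        obtain ⟨z, hzm, hz⟩ := H64.exists_orderOf_map (QuotientGroup.mk' (Cfsg.pCore 2 G)) x rfl
        obtain ⟨i, rfl⟩ := hzm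
        have hxb : orderOf (x : X) = p := by rw [hx, MulEquiv.orderOf_eq]
        have hmap : orderOf ((x ^ i : G) : X) = p := by
          rw [orderOf_mk_core (by rw [hz]; exact (show orderOf ((QuotientGroup.mk' _) x) = p from hxb) ▸ hpp.odd_of_ne_two hp2), hz]
          exact hxb
        have hgen : zpowers ((x ^ i : G) : X) = zpowers (x : X) := by
          refine eq_of_le_of_card_ge (zpowers_le.2 ⟨i, (QuotientGroup.mk_zpow (Cfsg.pCore 2 G) x i).symm⟩) ?_
          rw [Nat.card_zpowers, Nat.card_zpowers, hmap, hxb]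
        obtain ⟨l, hl⟩ : xb ∈ zpowers ((x ^ i : G) : X) := hgen ▸ hx ▸ mem_zpowers _
        refine ⟨(x ^ i) ^ l, ?_, by rw [QuotientGroup.mk_zpow]; exact hl⟩
        have hd : orderOf ((x ^ i) ^ l) ∣ p := by
          refine (orderOf_dvd_of_pow_eq_one ?_)
          rw [← zpow_natCast, zpow_comm, zpow_natCast, show p = orderOf (x ^ i) from hxb.symm.trans hz.symm,
            pow_orderOf_eq_one, one_zpow]
        refine ((Nat.dvd_prime hpp).1 hd).resolve_left fun h1 => ?_
        rw [orderOf_eq_one_iff] at h1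
        have : xb = 1 := hl.symm.trans ((QuotientGroup.mk_zpow (Cfsg.pCore 2 G) (x ^ i) l).symm.trans (by rw [h1]; rfl))
        exact hg1 (f.symm.map_eq_one_iff.1 this)
      have hgb : gb ∈ normalizer ((zpowers x₀).map (QuotientGroup.mk' (Cfsg.pCore 2 G)) : Set X) := by
        rw [MonoidHom.map_zpowers, QuotientGroup.mk'_apply, hx₀', mem_normalizer_iff_map_conj_eq,
          MonoidHom.map_zpowers]
        have h1 := mem_normalizer_iff_map_conj_eq.1 hbn
        rw [MonoidHom.map_zpowers] at h1
        have h2 := congrArg (Subgroup.map f.symm.toMonoidHom) h1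
        rw [MonoidHom.map_zpowers, MonoidHom.map_zpowers] at h2
        simpa [gb, xb, map_mul, map_inv] using h2
      have hcop := coprime_core (G := G) hp2
      obtain ⟨g, hgn, hg⟩ := H1.normalizer_map_le_of_coprime (Cfsg.pCore 2 G) hcop
        (IsPGroup.of_card (p := p) (n := 1) (by rw [Nat.card_zpowers, hx₀, pow_one])) hgb
      have hx1 : x₀ ≠ 1 := fun h' => by rw [h', orderOf_one] at hx₀; exact hpp.ne_one hx₀.symm
      have hxo : Odd (orderOf x₀) := hx₀ ▸ hpp.odd_of_ne_two hp2
      have hg4X : orderOf (g : X) = 4 := by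
        rw [show (g : X) = gb from hg, MulEquiv.orderOf_eq, hb4]
      have hgn' : ∀ i : ℕ, g ^ i * x₀ * (g ^ i)⁻¹ ∈ zpowers x₀ := fun i =>
        (mem_normalizer_iff.1 (pow_mem hgn i) x₀).1 (mem_zpowers x₀)
      -- `g ^ 4` centralises `x₀`
      have hg4 : g ^ 4 = 1 := by
        have hv : g ^ 4 ∈ Cfsg.pCore 2 G := (QuotientGroup.eq_one_iff _).1 (by
          rw [QuotientGroup.mk_pow, ← hg4X, pow_orderOf_eq_one])
        have hcomm : g ^ 4 * x₀ * (g ^ 4)⁻¹ * x₀⁻¹ = 1 := eq_one_of_odd_mem (H1.isPGroup_pCore 2 G)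
          (by
            rw [show g ^ 4 * x₀ * (g ^ 4)⁻¹ * x₀⁻¹ = g ^ 4 * (x₀ * (g ^ 4)⁻¹ * x₀⁻¹) by group]
            exact mul_mem hv ((inferInstance : (Cfsg.pCore 2 G).Normal).conj_mem _ (inv_mem hv) x₀))
          (hxo.of_dvd_nat ((Nat.card_zpowers x₀) ▸ Subgroup.orderOf_dvd_natCard _
            (mul_mem (hgn' 4) (inv_mem (mem_zpowers x₀)))))
        exact hG.fpf' (H1.isPGroup_pCore 2 G) hxo hx1 hv (mul_inv_eq_iff_eq_mul.1 (mul_inv_eq_one.1 hcomm)).symm
      have hgo : orderOf g = 4 := Nat.dvd_antisymm (orderOf_dvd_of_pow_eq_one hg4)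
        (hg4X ▸ orderOf_map_dvd (QuotientGroup.mk' _) g)
      have hg2 : orderOf (g * g) = 2 := by rw [← pow_two, orderOf_pow, hgo]; norm_num
      refine core_bot_of_four hG (fun x k hk => h.two_power_le x hk) hxo hx1 hgo ?_
      -- an automorphism of order two of a group of prime order inverts it
      set y := g * g * x₀ * (g * g)⁻¹ with hy
      have hyz : y ∈ zpowers x₀ := by rw [hy, ← pow_two]; exact hgn' 2
      have hcomm : y * x₀ = x₀ * y := by
        obtain ⟨i, hi⟩ := hyz; rw [← hi]; exact (Commute.zpow_self x₀ i).eq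
      have hyy : g * g * y * (g * g)⁻¹ = x₀ := by
        rw [hy, show g * g * (g * g * x₀ * (g * g)⁻¹) * (g * g)⁻¹ = g ^ 4 * x₀ * (g ^ 4)⁻¹ by
          simp [pow_succ, mul_assoc], hg4]
        group
      have hfix : g * g * (x₀ * y) = x₀ * y * (g * g) := by
        refine mul_inv_eq_iff_eq_mul.1 ?_
        rw [show g * g * (x₀ * y) * (g * g)⁻¹ = (g * g * x₀ * (g * g)⁻¹) * (g * g * y * (g * g)⁻¹) by group,
          hyy, ← hy, hcomm]
      by_contra hne
      have hne1 : x₀ * y ≠ 1 := fun h' => hne (eq_inv_of_mul_eq_one_right h')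
      have hodd' : Odd (orderOf (x₀ * y)) := hxo.of_dvd_nat ((Nat.card_zpowers x₀) ▸
        Subgroup.orderOf_dvd_natCard _ (mul_mem (mem_zpowers x₀) hyz))
      exact H28.CITGraph.false_of_commute hG hg2 hodd' hne1 hfix
    obtain ⟨c⟩ := mk_core_equiv hV
    have iso : G ≃* Cfsg.Sz E m := c.trans f
    haveI : IsSimpleGroup (Cfsg.Sz E m) := H57.sz_simple hm hE
    haveI : Nontrivial G := iso.toEquiv.nontrivial
    refine Or.inr (Or.inr (Or.inr (Or.inr ⟨m, hm,
      IsSimpleGroup.isSimpleGroup_of_surjective (f := iso.symm.toMonoidHom) iso.symm.surjective, ?_, ?_, ?_, ?_⟩)))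
    · rw [Nat.card_congr iso.toEquiv, H57.card_sz hm hE]
    · rw [← H57.card_dSub (m := m) hE]
      exact hlen _ (H57.dSub_cyclic hE)
    · rw [← hcm]; exact hlen _ (hcyc _ hAm)
    · rw [← hcp]; exact hlen _ (hcyc _ hAp)

end H11.ThreeOrders
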