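import Cfsg.Agent.H11.ThreeOrders.Basic
import Cfsg.Agent.H59.CIT.EPPO

/-!
Counting with Frattini's argument: primes dividing the index of a normal subgroup.
-/

set_option autoImplicit false
set_option linter.unusedSectionVars false
set_option linter.style.haveILetI false

namespace H11.ThreeOrders

open Subgroup

universe u

variable {X : Type u} [Group X] [Finite X]

/-- An `r`-group normalising an `s`-group either acts semiregularly or gives an element of order `rs`. -/
theorem card_dvd_or_mul {r s : ℕ} [hr : Fact r.Prime] [hs : Fact s.Prime] (hne : r ≠ s)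
    (T P : Subgroup X) (hT : IsPGroup r T) (hP : IsPGroup s P) (hTP : T ≤ normalizer (P : Set X)) :
    Nat.card T ∣ Nat.card P - 1 ∨ ∃ z : X, orderOf z = r * s := by
  classical
  refine or_iff_not_imp_right.2 fun hno => ?_
  let act : MulAction T P :=
    { smul := fun t v => ⟨(t : X) * v * (t : X)⁻¹, (mem_normalizer_iff.1 (hTP t.2) v).1 v.2⟩
      one_smul := fun v => Subtype.ext
        (show ((1 : T) : X) * (v : X) * ((1 : T) : X)⁻¹ = v by simp)
      mul_smul := fun a b v => Subtype.ext
        (show ((a * b : T) : X) * (v : X) * ((a * b : T) : X)⁻¹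
          = (a : X) * ((b : X) * v * (b : X)⁻¹) * (a : X)⁻¹ by simp [mul_assoc]) }
  let s' : SubMulAction T P :=
    { carrier := {v | v ≠ 1}
      smul_mem' := fun t v hv h1 => hv (Subtype.ext (by
        have h2 : (t : X) * v * (t : X)⁻¹ = 1 := congrArg Subtype.val h1
        simpa using h2)) }
  have hstab : ∀ v : s', MulAction.stabilizer T v = ⊥ := by
    rintro ⟨v, hv⟩
    rw [eq_bot_iff]
    intro t ht
    have h2 : (t : X) * v * (t : X)⁻¹ = v :=
      congrArg (fun x : s' => ((x : P) : X)) (MulAction.mem_stabilizer_iff.1 ht)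
    obtain ⟨i, hi⟩ := IsPGroup.iff_orderOf.1 hT t
    obtain ⟨j, hj⟩ := IsPGroup.iff_orderOf.1 hP v
    by_contra htn
    have hi0 : i ≠ 0 := fun e => htn (mem_bot.2 (orderOf_eq_one_iff.1 (by rw [hi, e, pow_zero])))
    have hj0 : j ≠ 0 := fun e => hv (orderOf_eq_one_iff.1 (by rw [hj, e, pow_zero]))
    rw [← orderOf_coe] at hi hj
    exact hno (exists_order_mul hr.out hs.out hne
      (orderOf_div (t : X) (hi ▸ dvd_pow_self r hi0)) (orderOf_div (v : X) (hj ▸ dvd_pow_self s hj0))
      ((show Commute (t : X) v from mul_inv_eq_iff_eq_mul.1 h2).pow_pow _ _))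
  have hcard : Nat.card s' = Nat.card P - 1 := by
    have : Nat.card s' = ({(1 : P)}ᶜ : Set P).ncard := Nat.card_coe_set_eq _
    rw [this, Set.ncard_compl, Set.ncard_singleton]
  have := Fintype.ofFinite (MulAction.orbitRel.Quotient T s')
  rw [← hcard, Nat.card_congr (MulAction.selfEquivSigmaOrbits T s'), Nat.card_sigma]
  refine Finset.dvd_sum fun ω _ => ?_
  rw [Nat.card_congr (MulAction.orbitEquivQuotientStabilizer T _), hstab]
  exact dvd_of_eq Subgroup.index_bot.symm

/-- Frattini's argument in numbers. -/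
theorem outer_count (N : Subgroup X) [N.Normal] {r s : ℕ} [hr : Fact r.Prime] [hs : Fact s.Prime]
    (hne : r ≠ s) {a : ℕ} (hidx : r ^ a ∣ N.index) (P : Sylow s N) {k : ℕ}
    (hk : r ^ k ∣ Nat.card (normalizer ((P : Subgroup N) : Set N))) :
    r ^ (k + a) ∣ Nat.card P - 1 ∨ ∃ z : X, orderOf z = r * s := by
  set P' : Subgroup X := (P : Subgroup N).map N.subtype
  set Y : Subgroup X := normalizer (P' : Set X)
  have hsup : Y ⊔ N = ⊤ := Sylow.normalizer_sup_eq_top P
  have hle : (normalizer ((P : Subgroup N) : Set N)).map N.subtype ≤ Y ⊓ N :=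
    le_inf (le_normalizer_map _) (map_subtype_le _)
  have hk' : r ^ k ∣ Nat.card (Y ⊓ N : Subgroup X) := by
    refine hk.trans ?_
    rw [← card_map_of_injective N.subtype_injective]
    exact card_dvd_of_le hle
  have hrel : N.relIndex Y = N.index := by
    rw [← relIndex_top_right, ← hsup, relIndex_sup_right]
  have hY : Nat.card Y = N.index * Nat.card (Y ⊓ N : Subgroup X) := by
    rw [← hrel, inf_comm, ← inf_relIndex_right, ← relIndex_bot_left,
      ← relIndex_bot_left, mul_comm, relIndex_mul_relIndex _ _ _ bot_le inf_le_right]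
  have hd : r ^ (k + a) ∣ Nat.card Y := by
    rw [hY, add_comm, pow_add]
    exact mul_dvd_mul hidx hk'
  obtain ⟨T, hT⟩ := Sylow.exists_subgroup_card_pow_prime r hd
  have hTc : Nat.card (T.map Y.subtype) = r ^ (k + a) := by
    rw [card_map_of_injective Y.subtype_injective, hT]
  have := card_dvd_or_mul hne (T.map Y.subtype) P' (IsPGroup.of_card hTc)
    (P.isPGroup'.map N.subtype) (map_subtype_le T)
  rwa [hTc, card_map_of_injective N.subtype_injective] at this

/-- If squares of automorphisms of the socle are inner, all squares lie in it. -/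
theorem sq_mem_of_aut (N : Subgroup X) [N.Normal] (hC : Subgroup.centralizer (N : Set X) = ⊥)
    {L : Type*} [Group L] (e : N ≃* L) (H : ∀ α : MulAut L, ∃ s : L, α * α = MulAut.conj s) (g : X) :
    g * g ∈ N := by
  obtain ⟨s, hs⟩ := H ((MulAut.congr e) (MulAut.conjNormal g))
  set n₀ : X := ((e.symm s : N) : X) with hn₀
  have h1 : (MulAut.conjNormal (g * g) : MulAut N) = MulAut.conjNormal n₀ := by
    apply (MulAut.congr e).injective
    rw [map_mul, map_mul, hs]
    apply MulEquiv.ext
    intro x
    show MulAut.conj s x = e ((MulAut.conjNormal n₀ : MulAut N) (e.symm x))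
    have : (MulAut.conjNormal n₀ : MulAut N) (e.symm x) = e.symm (MulAut.conj s x) := by
      apply Subtype.ext
      rw [MulAut.conjNormal_apply, MulAut.conj_apply, map_mul, map_mul, map_inv]
      rfl
    rw [this, e.apply_symm_apply]
  have h2 : (MulAut.conjNormal (n₀⁻¹ * (g * g)) : MulAut N) = 1 := by
    rw [map_mul, map_inv, h1, inv_mul_cancel]
  have h3 : n₀⁻¹ * (g * g) ∈ Subgroup.centralizer (N : Set X) := by
    rw [mem_centralizer_iff]
    intro x hx
    have h4 := congrArg Subtype.val (DFunLike.congr_fun h2 ⟨x, hx⟩)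
    rw [MulAut.conjNormal_apply] at h4
    exact (mul_inv_eq_iff_eq_mul.1 h4).symm
  rw [hC, mem_bot, inv_mul_eq_one] at h3
  rw [← h3]
  exact (e.symm s).2

/-- In a nonabelian simple group an involution-sized automiser: the normaliser of a Sylow subgroup
of order three or five has even order. -/
theorem even_normalizer [IsSimpleGroup X] (hX : ¬ IsMulCommutative X) {s : ℕ} [hs : Fact s.Prime]
    (h35 : s = 3 ∨ s = 5) (P : Sylow s X) (hP : Nat.card P = s) :
    2 ∣ Nat.card (normalizer ((P : Subgroup X) : Set X)) := by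
  by_contra hodd
  have hcyc : IsCyclic P := isCyclic_of_prime_card hP
  have hcent : normalizer ((P : Subgroup X) : Set X) ≤ centralizer ((P : Subgroup X) : Set X) := by
    intro g hg
    have hgo : Odd (orderOf g) := by
      rw [← Nat.not_even_iff_odd, even_iff_two_dvd]
      exact fun h => hodd (h.trans (Subgroup.orderOf_dvd_natCard _ hg))
    let f : normalizer ((P : Subgroup X) : Set X) →* MulAut (P : Subgroup X) :=
      (P : Subgroup X).normalizerMonoidHom
    have h1 : orderOf (f ⟨g, hg⟩) ∣ orderOf g := by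
      have := orderOf_map_dvd f ⟨g, hg⟩
      rwa [orderOf_mk] at this
    have h2 : orderOf (f ⟨g, hg⟩) ∣ s - 1 := by
      have h := orderOf_dvd_natCard (f ⟨g, hg⟩)
      rwa [IsCyclic.card_mulAut, hP, Nat.totient_prime hs.out] at h
    have h3 : orderOf (f ⟨g, hg⟩) ∣ 4 := h2.trans (by rcases h35 with rfl | rfl <;> norm_num)
    have h4 : f ⟨g, hg⟩ = 1 := orderOf_eq_one_iff.1 (Nat.eq_one_of_dvd_coprimes
      (Nat.Coprime.pow_left 2 (Nat.coprime_two_left.2 hgo) : Nat.Coprime (2 ^ 2) (orderOf g)) h3 h1)
    have h5 : (⟨g, hg⟩ : normalizer ((P : Subgroup X) : Set X)) ∈ f.ker := h4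
    rw [Subgroup.normalizerMonoidHom_ker] at h5
    exact h5
  obtain ⟨K, hK⟩ : ∃ K : Subgroup X, K.IsComplement' (P : Subgroup X) ∧ K.Normal := by
    refine ⟨(MonoidHom.transferSylow P hcent).ker, MonoidHom.ker_transferSylow_isComplement' P hcent, ?_⟩
    infer_instance
  rcases hK.2.eq_bot_or_eq_top with h | h
  · subst h
    have h1 := hK.1.card_mul
    rw [Subgroup.card_bot, one_mul] at h1
    haveI : IsCyclic X := isCyclic_of_prime_card (p := s) (by rw [← h1, hP])
    exact hX ⟨⟨fun a b => (IsCyclic.commGroup (α := X)).mul_comm a b⟩⟩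
  · subst h
    have h1 := hK.1.card_mul
    rw [Subgroup.card_top] at h1
    have := Nat.card_pos (α := X)
    have : Nat.card P = 1 := by nlinarith
    rw [hP] at this
    exact hs.out.ne_one this

end H11.ThreeOrders
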