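import Cfsg.Agent.H11.ThreeOrders.AltSix
import Cfsg.Agent.H37.SmallIso
import Cfsg.Agent.H59.CIT.SimpleFacts
import Cfsg.Agent.H28.CITGraph.Families

/-!
CIT groups without a prime in three element orders: no outer part over `PSL₂(7)`, `A₆`, `PSL₃(4)`.
-/

set_option autoImplicit false
set_option linter.unusedSectionVars false
set_option linter.style.haveILetI false

namespace H11.ThreeOrders

open Subgroup H11.CIT

universe u

variable {X : Type u} [Group X] [Finite X]

theorem index_two_pow (N : Subgroup X) (hodd : ∀ r : ℕ, r.Prime → r ≠ 2 → ¬ r ∣ N.index) :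
    ∃ a, N.index = 2 ^ a := by
  by_contra h
  obtain ⟨r, hr, hr2, hrd⟩ := H28.CITGraph.exists_odd_prime_dvd_of_not_two_pow N.index_ne_zero_of_finite h
  exact hodd r hr hr2 hrd

theorem not_two_r (hG : IsCIT X) {r : ℕ} (hr : r.Prime) (hr2 : r ≠ 2) :
    ¬ ∃ z : X, orderOf z = 2 * r := fun ⟨_, hz⟩ => H28.CITGraph.not_two_mul hG hr hr2 hz

theorem not_r_two (hG : IsCIT X) {r : ℕ} (hr : r.Prime) (hr2 : r ≠ 2) :
    ¬ ∃ z : X, orderOf z = r * 2 := fun ⟨_, hz⟩ => H28.CITGraph.not_two_mul hG hr hr2 (hz.trans (mul_comm r 2))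

/-- A prime outside with element orders `7·a` and `7·b` does not exist. -/
theorem Cond.no_seven (h : Cond X) (h7 : 7 ∣ Nat.card X) {a b : ℕ} (ha : 1 < a) (hab : a ≠ b) (hb : 1 < b)
    (za : ∃ z : X, orderOf z = 7 * a) (zb : ∃ z : X, orderOf z = 7 * b) : False := by
  haveI : Fact (Nat.Prime 7) := ⟨by norm_num⟩
  obtain ⟨x, hx⟩ := exists_prime_orderOf_dvd_card' (G := X) 7 h7
  obtain ⟨y, hy⟩ := za
  obtain ⟨z, hz⟩ := zb
  exact h.false_of (by norm_num : Nat.Prime 7) hx hy hz (by omega) (by omega) (by omega) dvd_rfl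
    (dvd_mul_right 7 a) (dvd_mul_right 7 b)

theorem psl7_top (hG : IsCIT X) (N : Subgroup X) [N.Normal] [IsSimpleGroup N] (hnc : ¬ IsMulCommutative N)
    (hC : Subgroup.centralizer (N : Set X) = ⊥) {F : Type*} [Field F] [Fintype F] (hF : Fintype.card F = 7)
    (e : N ≃* Matrix.ProjectiveSpecialLinearGroup (Fin 2) F) : N = ⊤ := by
  haveI : Fact (Nat.Prime 2) := ⟨Nat.prime_two⟩
  haveI : Fact (Nat.Prime 3) := ⟨Nat.prime_three⟩
  have hsq : ∀ g : X, g * g ∈ N := sq_mem_of_aut N hC e
    (H28.CITGraph.psl2_aut_sq (by rw [Nat.card_eq_fintype_card, hF]; norm_num))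
  obtain ⟨a, ha⟩ := index_two_pow N fun r hr hr2 hd => by
    haveI := Fact.mk hr
    rw [Subgroup.index_eq_card] at hd
    obtain ⟨x, hx⟩ := exists_prime_orderOf_dvd_card' (G := X ⧸ N) r hd
    obtain ⟨g, rfl⟩ := QuotientGroup.mk_surjective x
    have h := orderOf_dvd_of_pow_eq_one (x := (g : X ⧸ N)) (n := 2) (by
      rw [← QuotientGroup.mk_pow]; exact (QuotientGroup.eq_one_iff _).2 (by rw [pow_two]; exact hsq g))
    rw [hx] at h
    exact hr2 ((Nat.prime_dvd_prime_iff_eq hr Nat.prime_two).1 h)
  by_contra hne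
  have hc : Nat.card N = 168 := by
    have h := H37.card_PSL_two (F := F)
    rw [Nat.card_eq_fintype_card (α := F), hF, ← Nat.card_congr e.toEquiv] at h
    norm_num at h
    omega
  have hP := H59.CIT.sylow_card_of_eq (s := 3) (a := 1) (b := 56) (by rw [hc]; norm_num) (by norm_num)
    (default : Sylow 3 N)
  have ha0 : a ≠ 0 := fun h => hne (index_eq_one.1 (by rw [ha, h, pow_zero]))
  rcases outer_count N (r := 2) (s := 3) (by norm_num) (a := 1) (ha ▸ dvd_pow_self 2 ha0) default (k := 1)
    (by rw [pow_one]; exact even_normalizer hnc (Or.inl rfl) _ (by rw [hP, pow_one])) with h | h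
  · rw [hP] at h; norm_num at h
  · exact not_two_r hG Nat.prime_three (by norm_num) h

theorem a6_top (hG : IsCIT X) (hc : Cond X) (N : Subgroup X) [N.Normal] [IsSimpleGroup N]
    (hnc : ¬ IsMulCommutative N) (hC : Subgroup.centralizer (N : Set X) = ⊥) (e : N ≃* A6) : N = ⊤ := by
  haveI : Fact (Nat.Prime 2) := ⟨Nat.prime_two⟩
  haveI : Fact (Nat.Prime 3) := ⟨Nat.prime_three⟩
  haveI : Fact (Nat.Prime 5) := ⟨by norm_num⟩
  have hN : Nat.card N = 360 := by rw [Nat.card_congr e.toEquiv, card_a6]
  have h2 := H59.CIT.sylow_card_of_eq (s := 2) (a := 3) (b := 45) (by rw [hN]; norm_num) (by norm_num)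
    (default : Sylow 2 N)
  have h3 := H59.CIT.sylow_card_of_eq (s := 3) (a := 2) (b := 40) (by rw [hN]; norm_num) (by norm_num)
    (default : Sylow 3 N)
  have h5 := H59.CIT.sylow_card_of_eq (s := 5) (a := 1) (b := 72) (by rw [hN]; norm_num) (by norm_num)
    (default : Sylow 5 N)
  obtain ⟨a, ha⟩ := index_two_pow N fun r hr hr2 hd => by
    haveI := Fact.mk hr
    have hd' : r ^ 1 ∣ N.index := by rwa [pow_one]
    rcases outer_count N hr2 hd' default (k := 0) (one_dvd _) with h | h
    · rw [h2] at h
      norm_num at h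
      obtain rfl := (Nat.prime_dvd_prime_iff_eq hr (by norm_num : Nat.Prime 7)).1 h
      refine hc.no_seven (hd.trans N.index_dvd_card) (a := 3) (b := 5) (by norm_num) (by norm_num) (by norm_num) ?_ ?_
      · rcases outer_count N (s := 3) (by norm_num) hd' default (k := 0) (one_dvd _) with h | h
        · rw [h3] at h; norm_num at h
        · exact h
      · rcases outer_count N (s := 5) (by norm_num) hd' default (k := 0) (one_dvd _) with h | h
        · rw [h5] at h; norm_num at h
        · exact h
    · exact not_r_two hG hr hr2 h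
  by_contra hne
  have ha0 : a ≠ 0 := fun h => hne (index_eq_one.1 (by rw [ha, h, pow_zero]))
  rcases Nat.lt_or_ge a 2 with ha1 | ha2
  · obtain rfl : a = 1 := by omega
    exact no_a6_two hG (fun x k hk => hc.two_power_le x hk) N hC e (by rw [ha, pow_one])
  rcases outer_count N (r := 2) (s := 5) (by norm_num) (a := 2) (ha ▸ pow_dvd_pow 2 ha2) default (k := 1)
    (by rw [pow_one]; exact even_normalizer hnc (Or.inr rfl) _ (by rw [h5, pow_one])) with h | h
  · rw [h5] at h; norm_num at h
  · exact not_two_r hG (by norm_num : Nat.Prime 5) (by norm_num) h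

theorem psl34_top (hG : IsCIT X) (hc : Cond X) (N : Subgroup X) [N.Normal] {F : Type*} [Field F] [Fintype F]
    (hF : Fintype.card F = 4) (e : N ≃* Matrix.ProjectiveSpecialLinearGroup (Fin 3) F) : N = ⊤ := by
  haveI : Fact (Nat.Prime 2) := ⟨Nat.prime_two⟩
  haveI : Fact (Nat.Prime 3) := ⟨Nat.prime_three⟩
  haveI : Fact (Nat.Prime 5) := ⟨by norm_num⟩
  have hN : Nat.card N = 20160 := by rw [Nat.card_congr e.toEquiv, H59.CIT.card_psl34 hF]
  have h2 := H59.CIT.sylow_card_of_eq (s := 2) (a := 6) (b := 315) (by rw [hN]; norm_num) (by norm_num)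
    (default : Sylow 2 N)
  have h3 : ∀ P : Sylow 3 N, Nat.card P = 3 ^ 2 :=
    H59.CIT.sylow_card_of_eq (b := 2240) (by rw [hN]; norm_num) (by norm_num)
  have h5 := H59.CIT.sylow_card_of_eq (s := 5) (a := 1) (b := 4032) (by rw [hN]; norm_num) (by norm_num)
    (default : Sylow 5 N)
  obtain ⟨P₀, hP₀, -, -, h8⟩ := H59.CIT.psl34_three hF
  have hPi : ¬ 3 ∣ P₀.index := by
    have := P₀.card_mul_index
    rw [hP₀, H59.CIT.card_psl34 hF] at this
    omega
  obtain ⟨P, -, hn⟩ := H59.CIT.exists_sylow_transfer e.symm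
    ((IsPGroup.of_card (n := 2) (by rw [hP₀]; norm_num)).toSylow hPi)
  have hP8 : 2 ^ 3 ∣ Nat.card (normalizer ((P : Subgroup N) : Set N)) := h8.trans hn
  obtain ⟨a, ha⟩ := index_two_pow N fun r hr hr2 hd => by
    haveI := Fact.mk hr
    have hd' : r ^ 1 ∣ N.index := by rwa [pow_one]
    rcases outer_count N hr2 hd' default (k := 0) (one_dvd _) with h | h
    swap
    · exact not_r_two hG hr hr2 h
    rw [h2] at h
    norm_num at h
    have hr37 : r = 3 ∨ r = 7 := by
      have hmem : r ∈ Nat.primeFactors 63 := Nat.mem_primeFactors.2 ⟨hr, h, by norm_num⟩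
      rw [show Nat.primeFactors 63 = {3, 7} by simp +decide [Nat.primeFactors]] at hmem
      simpa using hmem
    rcases hr37 with rfl | rfl
    · -- the Sylow 2-subgroup of the normaliser of a Sylow 3-subgroup
      set P' : Subgroup X := (P : Subgroup N).map N.subtype
      set Y : Subgroup X := normalizer (P' : Set X) with hY
      set K : Subgroup Y := N.subgroupOf Y with hK
      have hKi : K.index = N.index := by
        show N.relIndex Y = _
        rw [← relIndex_top_right, ← Sylow.normalizer_sup_eq_top P, relIndex_sup_right]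
      obtain ⟨Q⟩ : Nonempty (Sylow 2 K) := inferInstance
      obtain ⟨i, hi⟩ := IsPGroup.iff_card.1 Q.isPGroup'
      have hno : ¬ ∃ z : Y, orderOf z = 3 * 2 := fun ⟨z, hz⟩ =>
        H28.CITGraph.not_two_mul hG Nat.prime_three (by norm_num) (g := (z : X)) (by rw [orderOf_coe, hz])
      have hQ8 : Nat.card Q ∣ 2 ^ 3 := by
        let f : K →* X := Y.subtype.comp K.subtype
        have hle : (Q : Subgroup K).map f ≤ normalizer (P' : Set X) := by
          rintro _ ⟨q, -, rfl⟩; exact q.1.2
        rcases card_dvd_or_mul (r := 2) (s := 3) (by norm_num) ((Q : Subgroup K).map f) P'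
          (Q.isPGroup'.map f) (P.isPGroup'.map _) hle with h | h
        · rw [card_map_of_injective (f := f) (Y.subtype_injective.comp K.subtype_injective),
            card_map_of_injective N.subtype_injective] at h
          show Nat.card (Q : Subgroup K) ∣ _
          have h9 : Nat.card (P : Subgroup N) = 3 ^ 2 := h3 P
          rw [h9] at h
          norm_num at h ⊢
          exact h
        · exact absurd h (not_two_r hG Nat.prime_three (by norm_num))
      rcases outer_count K (r := 3) (s := 2) (by norm_num) (a := 1) (by rw [hKi, pow_one]; exact hd) Q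
        (k := 0) (one_dvd _) with h | h
      · have h8' : Nat.card Q = 2 ^ 3 := by
          refine Nat.dvd_antisymm hQ8 ?_
          have hle : (normalizer ((P : Subgroup N) : Set N)).map N.subtype ≤ Y ⊓ N :=
            le_inf (le_normalizer_map _) (map_subtype_le _)
          have h1 : 2 ^ 3 ∣ Nat.card K := by
            rw [hK, ← Subgroup.inf_subgroupOf_right, inf_comm,
              Nat.card_congr (Subgroup.subgroupOfEquivOfLe (inf_le_left : Y ⊓ N ≤ Y)).toEquiv]
            refine hP8.trans ?_
            rw [← card_map_of_injective N.subtype_injective]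
            exact card_dvd_of_le hle
          rw [← (Q : Subgroup K).card_mul_index] at h1
          exact (Nat.Coprime.pow_left _ (Nat.prime_two.coprime_iff_not_dvd.2 Q.not_dvd_index)).dvd_of_dvd_mul_right h1
        rw [h8'] at h
        norm_num at h
      · exact hno h
    · refine hc.no_seven (hd.trans N.index_dvd_card) (a := 3) (b := 5) (by norm_num) (by norm_num) (by norm_num) ?_ ?_
      · rcases outer_count N (s := 3) (by norm_num) hd' default (k := 0) (one_dvd _) with h | h
        · rw [h3] at h; norm_num at h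
        · exact h
      · rcases outer_count N (s := 5) (by norm_num) hd' default (k := 0) (one_dvd _) with h | h
        · rw [h5] at h; norm_num at h
        · exact h
  by_contra hne
  have ha0 : a ≠ 0 := fun h => hne (index_eq_one.1 (by rw [ha, h, pow_zero]))
  rcases outer_count N (r := 2) (s := 3) (by norm_num) (a := 1) (ha ▸ dvd_pow_self 2 ha0) P (k := 3) hP8 with h | h
  · rw [h3] at h; norm_num at h
  · exact not_two_r hG Nat.prime_three (by norm_num) h

end H11.ThreeOrders
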